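import Cfsg.Agent.Lib.Recog.SporBound.Sound
import Cfsg.Agent.Lib.Recog.SporBound.U43X.Tree0
import Cfsg.Agent.Lib.Recog.SporBound.U43X.Tree1
import Cfsg.Agent.Lib.Recog.SporBound.U43X.Tree2
import Cfsg.Agent.Lib.Recog.SporBound.U43X.Tree3
import Cfsg.Agent.Lib.Recog.SporBound.U43X.Tree4

set_option autoImplicit false
set_option maxRecDepth 20000

/-! Generated closure certificate: 2^4:A6 in U4(3) (owner: lead). -/

namespace CfsgLib.Recog.SporBound.U43X
open CfsgLib.Recog.SporBound

noncomputable def factTree : Q (ℕ) := (.node (.node ft11 ft23 ft35 ft46) (.node ft58 ft70 ft82 ft93) (.node ft105 ft117 ft129 ft140) (.node ft152 ft164 ft175 ft186))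
noncomputable def nodeTree : Q (ℕ) := (.node ct12 ct24 ct36 ct48)
noncomputable def stepTree : Q (List ℕ) := (.node (.node st12 st25 st37 st49) (.node st62 st75 st87 st99) (.node st112 st124 st136 st148) (.node st161 st173 st185 st197))
noncomputable def finalTree : Q (List ℕ) := (.node (.node (.node et8 et16 et24 et32) (.node et40 et48 et56 et64) (.node et72 et80 et88 et96) (.node et104 et112 et120 et128)) (.node (.node et137 et145 et153 et161) (.node et169 et177 et185 et193) (.node et201 et209 et217 et225) (.node et233 et241 et249 et257)) (.node (.node et265 et273 et281 et289) (.node et297 et305 et313 et321) (.node et329 et337 et345 et353) (.node et361 et369 et377 et385)) (.node (.node et393 et401 et409 et417) (.node et425 et433 et441 et449) (.node et457 et465 et473 et481) (.node et489 et497 et505 et513)))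

/-- The certificate. -/
noncomputable def cert : Cert where
  n := 5760
  nd := 10241
  nf := 21866
  kl := [0, 1, 2, 3, 4]
  facts := factTree
  cn := nodeTree
  steps := stepTree
  finals := finalTree
  rels := [[0, 0], [1, 1], [2, 2], [3, 3], [4, 4], [1, 3, 0, 3, 1, 0], [1, 0, 3, 1, 3, 1, 3, 0], [1, 2, 1, 2, 3, 1, 2, 1, 3], [1, 2, 0, 1, 2, 0, 1, 2, 1, 0, 2, 0], [4, 0, 1, 0, 1, 4, 3, 1, 2, 0, 2, 1, 3, 0], [4, 0, 3, 1, 2, 0, 2, 1, 3, 4, 1, 0, 1, 0], [4, 0, 1, 0, 2, 0, 2, 1, 4, 2, 1, 0, 1, 2, 0], [4, 0, 2, 1, 0, 1, 2, 4, 1, 2, 0, 2, 0, 1, 0], [4, 0, 1, 0, 1, 4, 3, 1, 2, 0, 2, 1, 3, 0], [4, 0, 3, 1, 2, 0, 2, 1, 3, 4, 1, 0, 1, 0], [4, 0, 1, 2, 1, 2, 0, 1, 4, 1, 0, 2, 1, 2, 1, 0], [4, 0, 1, 2, 1, 2, 0, 4, 1], [4, 2, 4, 2, 4, 2], [3, 4, 3, 4, 3, 4, 3, 4, 3, 4], [1, 3, 4, 3, 4, 1, 3, 4, 3, 4, 1, 3, 4, 3, 4, 1, 3, 4, 3, 4, 1, 3, 4, 3, 4]]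
  subs := []

/-- Chains of the traced words. -/
noncomputable def closers : List ℕ := [0x60001d00073001920050500c5a033b5033b402e2d012d60351e012800128102013051a4021f303906038f20187a00d94005f7001e40008c0002500008000000001b00000, 0x4000180005f001520045700b46036310366e03983018fd0357b00df103060039530387700d9b00601001e70008d0002500008000000001600000, 0x8000250008d001e70060100d9b038770418a02203022040526b0216b0135d00a5b02cfa00a4e00a4f033b4033b500c5a0050500192000730001d00006000000001b00000, 0x8000250008d001e70060100d9b00d9b00d9a032f1032f300aca004100013900058000570005700016000040001300000, 0x20000e0003e02813029f300819008170322000bba0049b0016f00068000670282a001400005a000570005700016000040001400000]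

end CfsgLib.Recog.SporBound.U43X
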